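import Mathlib
import Groth.Agent.Lib.Helper5.CA.WeakColimit
import Groth.Agent.Lib.Helper1.FPKer
import Groth.Agent.Lib.Helper1.FlatNilpotent

/-!
# Injectivity with flat cokernel descends along a weak colimit (ring level, EGA IV 11.2.6 ii)
-/

set_option autoImplicit false

universe u v

open TensorProduct Function

namespace Groth.Agent.H3.InjLim

open Groth.Agent.H5.CA

section ker

variable {K : Type*} [CommRing K] {F G C : Type*} [AddCommGroup F] [Module K F]
  [AddCommGroup G] [Module K G] [AddCommGroup C] [Module K C]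

/-- If `F → G → C → 0` is exact with `C` flat, the kernel of a base change of `F → G` is the image
of the base change of the kernel. -/
theorem ker_lTensor_eq_range (h : F →ₗ[K] G) (p : G →ₗ[K] C) (hex : Exact h p)
    (hp : Surjective p) [Module.Flat K C] (S : Type*) [AddCommGroup S] [Module K S] :
    LinearMap.ker (h.lTensor S) = LinearMap.range ((LinearMap.ker h).subtype.lTensor S) := by
  let e : F →ₗ[K] LinearMap.range h := h.rangeRestrict
  have he : Surjective e := LinearMap.surjective_rangeRestrict h
  let ι : LinearMap.range h →ₗ[K] G := (LinearMap.range h).subtype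
  have hfac : ι ∘ₗ e = h := LinearMap.subtype_comp_codRestrict _ _ _
  have hexι : Exact ι p := by
    intro v
    rw [hex v]
    constructor
    · rintro ⟨w, rfl⟩
      exact ⟨⟨h w, ⟨w, rfl⟩⟩, rfl⟩
    · rintro ⟨⟨_, ⟨w, rfl⟩⟩, rfl⟩
      exact ⟨w, rfl⟩
  have hιinj : Injective (ι.lTensor S) :=
    Groth.Agent.H1.lTensor_injective_of_exact_of_flat ι p Subtype.val_injective hexι hp S
  have hex2 : Exact (LinearMap.ker h).subtype e := by
    intro v
    constructor
    · intro hv
      have h' : h v = 0 := by
        have := congrArg Subtype.val hv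
        simpa [e] using this
      exact ⟨⟨v, LinearMap.mem_ker.mpr h'⟩, rfl⟩
    · rintro ⟨w, rfl⟩
      apply Subtype.ext
      have := LinearMap.mem_ker.mp w.2
      simpa [e] using this
  have hex3 := lTensor_exact S hex2 he
  ext z
  rw [LinearMap.mem_ker, ← hfac, LinearMap.lTensor_comp, LinearMap.comp_apply]
  constructor
  · intro hz
    have : e.lTensor S z = 0 := hιinj (by rw [hz, map_zero])
    exact (hex3 z).mp this
  · intro hz
    rw [(hex3 z).mpr hz, map_zero]

end ker

section stage

variable {K : Type u} [CommRing K] {ι : Type v} {Gr : ι → Type u} [∀ i, CommRing (Gr i)]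
  [∀ i, Algebra K (Gr i)] {A : Type u} [CommRing A] [Algebra K A] (W : WeakColimit K Gr A)

/-- vanishing of `1 ⊗ n` persists along algebra maps -/
lemma one_tmul_eq_zero_of_algHom {R R' : Type*} [CommRing R] [Algebra K R] [CommRing R']
    [Algebra K R'] (ψ : R →ₐ[K] R') {F : Type*} [AddCommGroup F] [Module K F] (n : F)
    (h : (1 : R) ⊗ₜ[K] n = 0) : (1 : R') ⊗ₜ[K] n = 0 := by
  have := congrArg (ψ.toLinearMap.rTensor F) h
  rwa [LinearMap.rTensor_tmul, AlgHom.toLinearMap_apply, map_one, map_zero] at this

/-- a finite family of elements dying in the colimit dies at a stage -/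
lemma exists_one_tmul_eq_zero {F : Type*} [AddCommGroup F] [Module K F] (s : Finset F)
    (hs : ∀ n ∈ s, (1 : A) ⊗ₜ[K] n = 0) (i₀ : ι) :
    ∃ (j : ι) (θ : Gr i₀ →ₐ[K] Gr j), W.Adm θ ∧ ∀ n ∈ s, (1 : Gr j) ⊗ₜ[K] n = 0 := by
  classical
  induction s using Finset.induction with
  | empty => exact ⟨i₀, AlgHom.id K _, W.adm_id i₀, by simp⟩
  | insert a s _ ih =>
    obtain ⟨j, θ, hθ, h1⟩ := ih (fun n hn => hs n (Finset.mem_insert_of_mem hn))
    obtain ⟨k, φ, hφ, h2⟩ := W.exists_rTensor_kill F ((1 : Gr j) ⊗ₜ[K] a) (by
      rw [LinearMap.rTensor_tmul, AlgHom.toLinearMap_apply, map_one]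
      exact hs a (Finset.mem_insert_self _ _))
    rw [LinearMap.rTensor_tmul, AlgHom.toLinearMap_apply, map_one] at h2
    refine ⟨k, φ.comp θ, W.adm_comp θ φ hθ hφ, ?_⟩
    intro n hn
    rw [Finset.mem_insert] at hn
    rcases hn with rfl | hn
    · exact h2
    · exact one_tmul_eq_zero_of_algHom φ n (h1 n hn)

/-- **EGA IV 11.2.6 (ii), ring level.** `B` a finitely presented `K`-algebra, `F → G → C → 0` an
exact sequence of finitely presented `B`-modules with `C` flat over `K`. If `A ⊗ F → A ⊗ G` is
injective for the weak colimit `A`, then beyond some stage every base change is injective. -/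
theorem exists_stage_injective (B : Type u) [CommRing B] [Algebra K B]
    [Algebra.FinitePresentation K B] {F G C : Type u} [AddCommGroup F] [Module B F] [Module K F]
    [IsScalarTower K B F] [AddCommGroup G] [Module B G] [Module K G] [IsScalarTower K B G]
    [AddCommGroup C] [Module B C] [Module K C] [IsScalarTower K B C]
    [Module.FinitePresentation B F] [Module.FinitePresentation B G]
    [Module.FinitePresentation B C] [Module.Flat K C] (h : F →ₗ[B] G) (p : G →ₗ[B] C)
    (hex : Exact h p) (hp : Surjective p)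
    (hinj : Injective ((h.restrictScalars K).lTensor A)) (i₀ : ι) :
    ∃ (j : ι) (θ : Gr i₀ →ₐ[K] Gr j), W.Adm θ ∧
      ∀ (S : Type u) [CommRing S] [Algebra K S] (_ : Gr j →ₐ[K] S),
        Injective ((h.restrictScalars K).lTensor S) := by
  classical
  haveI : Module.FinitePresentation B (LinearMap.ker p) :=
    Groth.Agent.H1.FPKer.finitePresentation_ker (A := K) (B := B) p hp
  -- the kernel of `h` is finitely generated
  let e : F →ₗ[B] LinearMap.ker p := h.codRestrict (LinearMap.ker p) (fun x => by
    rw [LinearMap.mem_ker]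
    exact (hex (h x)).mpr ⟨x, rfl⟩)
  have he : Surjective e := by
    rintro ⟨g, hg⟩
    obtain ⟨x, hx⟩ := (hex g).mp (LinearMap.mem_ker.mp hg)
    exact ⟨x, Subtype.ext hx⟩
  have hkere : LinearMap.ker e = LinearMap.ker h := by
    ext x
    rw [LinearMap.mem_ker, LinearMap.mem_ker]
    constructor
    · intro hx
      have := congrArg Subtype.val hx
      simpa [e] using this
    · intro hx
      apply Subtype.ext
      simpa [e] using hx
  have hfg : (LinearMap.ker h).FG := by
    rw [← hkere]
    exact Module.FinitePresentation.fg_ker e he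
  obtain ⟨s, hs⟩ := hfg
  have hs0 : ∀ n ∈ s, (1 : A) ⊗ₜ[K] n = 0 := by
    intro n hn
    apply hinj
    rw [LinearMap.lTensor_tmul, map_zero]
    have : n ∈ LinearMap.ker h := hs ▸ Submodule.subset_span hn
    change (1 : A) ⊗ₜ[K] h n = 0
    rw [LinearMap.mem_ker.mp this, TensorProduct.tmul_zero]
  obtain ⟨j, θ, hθ, hj⟩ := exists_one_tmul_eq_zero W s hs0 i₀
  refine ⟨j, θ, hθ, ?_⟩
  intro S _ _ ψ
  have hS : ∀ n ∈ s, (1 : S) ⊗ₜ[K] n = 0 := fun n hn =>
    one_tmul_eq_zero_of_algHom ψ n (hj n hn)
  -- the submodule of elements all of whose tensors vanish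
  let T : Submodule B F :=
    { carrier := {m | ∀ t : S, t ⊗ₜ[K] m = 0}
      add_mem' := fun {a b} ha hb t => by rw [TensorProduct.tmul_add, ha t, hb t, add_zero]
      zero_mem' := fun t => TensorProduct.tmul_zero _ t
      smul_mem' := fun b m hm t => by
        have := congrArg (((b • (LinearMap.id : F →ₗ[B] F)).restrictScalars K).lTensor S) (hm t)
        rwa [LinearMap.lTensor_tmul, map_zero] at this }
  have hsT : LinearMap.ker h ≤ T := by
    rw [← hs, Submodule.span_le]
    intro n hn t
    have := congrArg ((LinearMap.mulLeft K t).rTensor F) (hS n hn)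
    rwa [LinearMap.rTensor_tmul, LinearMap.mulLeft_apply, mul_one, map_zero] at this
  rw [← LinearMap.ker_eq_bot,
    ker_lTensor_eq_range (h.restrictScalars K) (p.restrictScalars K) hex hp S, LinearMap.range_eq_bot]
  apply TensorProduct.ext'
  intro t m
  rw [LinearMap.lTensor_tmul, LinearMap.zero_apply]
  exact hsT (by
    have := m.2
    rw [LinearMap.mem_ker] at this ⊢
    exact this) t

end stage

end Groth.Agent.H3.InjLim
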