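import Groth.Agent.Lib.Lead.FF.FlatLimPt
import Groth.Agent.Lib.Helper1.SchFibInj2
import Groth.Agent.Lib.Helper3.InjLim.A

/-!
# Injectivity of base-changed maps of modules on affine pieces of fibre products
-/

set_option autoImplicit false
universe u
open CategoryTheory CategoryTheory.Limits AlgebraicGeometry TopologicalSpace Opposite TensorProduct

namespace Groth.Agent.H3.InjLim

open Groth.Agent.LD.QC Groth.Agent.LD.RelFP Groth.Agent.LD.FF Groth.Agent.H1.SchFlat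

section BaseChange

variable {X S X' S' : Scheme.{u}} (f : X ⟶ S) (f' : X' ⟶ S') (g' : X' ⟶ X) (g : S' ⟶ S)

set_option maxHeartbeats 800000 in
/-- injectivity of the base change of a map of quasi-coherent modules on an affine piece of a fibre
product, in terms of the tensor product. -/
theorem injective_lTensor_iff_injective_sections (hc : IsPullback g' f' f g) {F G : X.Modules}
    [F.IsQuasicoherent] [G.IsQuasicoherent] (u : F ⟶ G) {V : S.Opens} {V' : S'.Opens}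
    {U : X.Opens} (hV'V : V' ≤ g ⁻¹ᵁ V) (hUV : U ≤ f ⁻¹ᵁ V) (hV : IsAffineOpen V)
    (hV' : IsAffineOpen V') (hU : IsAffineOpen U) :
    letI : Algebra Γ(S, V) Γ(S', V') := (g.appLE V V' hV'V).hom.toAlgebra
    letI := algΓ f hUV
    letI := sectionsModuleOver f F hUV
    letI := sectionsModuleOver f G hUV
    haveI := isScalarTower_sections f F hUV
    haveI := isScalarTower_sections f G hUV
    Function.Injective (((appLinear u U).restrictScalars Γ(S, V)).lTensor Γ(S', V')) ↔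
      Function.Injective (((Scheme.Modules.pullback g').map u).app (g' ⁻¹ᵁ U ⊓ f' ⁻¹ᵁ V')) := by
  have hU' := isAffineOpen_inf_of_isPullback f f' g' g hc hV'V hUV hV hV' hU
  have hpo := (isIso_pushoutSection_iff hc hV'V hUV rfl).1
    (isIso_pushoutSection_of_isAffineOpen hc hV'V hUV rfl hV hV' hU)
  letI i1 : Algebra Γ(S, V) Γ(X, U) := (f.appLE V U hUV).hom.toAlgebra
  letI i2 : Algebra Γ(S, V) Γ(S', V') := (g.appLE V V' hV'V).hom.toAlgebra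
  letI i3 : Algebra Γ(X, U) Γ(X', g' ⁻¹ᵁ U ⊓ f' ⁻¹ᵁ V') :=
    (g'.appLE U (g' ⁻¹ᵁ U ⊓ f' ⁻¹ᵁ V') inf_le_left).hom.toAlgebra
  letI i4 : Algebra Γ(S', V') Γ(X', g' ⁻¹ᵁ U ⊓ f' ⁻¹ᵁ V') :=
    (f'.appLE V' (g' ⁻¹ᵁ U ⊓ f' ⁻¹ᵁ V') inf_le_right).hom.toAlgebra
  letI i5 : Algebra Γ(S, V) Γ(X', g' ⁻¹ᵁ U ⊓ f' ⁻¹ᵁ V') :=
    ((g'.appLE U (g' ⁻¹ᵁ U ⊓ f' ⁻¹ᵁ V') inf_le_left).hom.comp (f.appLE V U hUV).hom).toAlgebra
  haveI : IsScalarTower Γ(S, V) Γ(X, U) Γ(X', g' ⁻¹ᵁ U ⊓ f' ⁻¹ᵁ V') := .of_algebraMap_eq' rfl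
  haveI : IsScalarTower Γ(S, V) Γ(S', V') Γ(X', g' ⁻¹ᵁ U ⊓ f' ⁻¹ᵁ V') :=
    .of_algebraMap_eq' (congr($(hpo.1.1).hom))
  haveI hpo1 : Algebra.IsPushout Γ(S, V) Γ(X, U) Γ(S', V') Γ(X', g' ⁻¹ᵁ U ⊓ f' ⁻¹ᵁ V') :=
    CommRingCat.isPushout_iff_isPushout.mp hpo
  haveI hpo2 : Algebra.IsPushout Γ(S, V) Γ(S', V') Γ(X, U) Γ(X', g' ⁻¹ᵁ U ⊓ f' ⁻¹ᵁ V') :=
    Algebra.IsPushout.symm hpo1
  have e1 : g' ⁻¹ᵁ U ⊓ f' ⁻¹ᵁ V' ≤ g' ⁻¹ᵁ U := inf_le_left
  letI pF := pbModule g' F e1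
  haveI := pbModule_isScalarTower g' F e1
  letI pG := pbModule g' G e1
  haveI := pbModule_isScalarTower g' G e1
  have hbcF := isBaseChange_pbSec g' hU' hU e1 F
  have hbcG := isBaseChange_pbSec g' hU' hU e1 G
  letI mF := sectionsModuleOver f F hUV
  letI mG := sectionsModuleOver f G hUV
  letI m2F := sectionsModuleOver f' ((Scheme.Modules.pullback g').obj F)
    (inf_le_right : g' ⁻¹ᵁ U ⊓ f' ⁻¹ᵁ V' ≤ f' ⁻¹ᵁ V')
  letI m2G := sectionsModuleOver f' ((Scheme.Modules.pullback g').obj G)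
    (inf_le_right : g' ⁻¹ᵁ U ⊓ f' ⁻¹ᵁ V' ≤ f' ⁻¹ᵁ V')
  haveI : IsScalarTower Γ(S, V) Γ(X, U) Γ(F, U) := isScalarTower_sections f F hUV
  haveI : IsScalarTower Γ(S, V) Γ(X, U) Γ(G, U) := isScalarTower_sections f G hUV
  haveI : IsScalarTower Γ(S', V') Γ(X', g' ⁻¹ᵁ U ⊓ f' ⁻¹ᵁ V')
      Γ((Scheme.Modules.pullback g').obj F, g' ⁻¹ᵁ U ⊓ f' ⁻¹ᵁ V') :=
    isScalarTower_sections f' ((Scheme.Modules.pullback g').obj F)
      (inf_le_right : g' ⁻¹ᵁ U ⊓ f' ⁻¹ᵁ V' ≤ f' ⁻¹ᵁ V')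
  haveI : IsScalarTower Γ(S', V') Γ(X', g' ⁻¹ᵁ U ⊓ f' ⁻¹ᵁ V')
      Γ((Scheme.Modules.pullback g').obj G, g' ⁻¹ᵁ U ⊓ f' ⁻¹ᵁ V') :=
    isScalarTower_sections f' ((Scheme.Modules.pullback g').obj G)
      (inf_le_right : g' ⁻¹ᵁ U ⊓ f' ⁻¹ᵁ V' ≤ f' ⁻¹ᵁ V')
  let ΦF := (Algebra.IsPushout.cancelBaseChange Γ(S, V) Γ(S', V') Γ(X, U)
      Γ(X', g' ⁻¹ᵁ U ⊓ f' ⁻¹ᵁ V') Γ(F, U)).symm ≪≫ₗ hbcF.equiv.restrictScalars Γ(S', V')
  let ΦG := (Algebra.IsPushout.cancelBaseChange Γ(S, V) Γ(S', V') Γ(X, U)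
      Γ(X', g' ⁻¹ᵁ U ⊓ f' ⁻¹ᵁ V') Γ(G, U)).symm ≪≫ₗ hbcG.equiv.restrictScalars Γ(S', V')
  have hΦF : ∀ (s : Γ(S', V')) (m : Γ(F, U)), ΦF (s ⊗ₜ m) =
      (f'.appLE V' (g' ⁻¹ᵁ U ⊓ f' ⁻¹ᵁ V') inf_le_right).hom s • pbSec g' F e1 m := by
    intro s m
    change hbcF.equiv ((Algebra.IsPushout.cancelBaseChange Γ(S, V) Γ(S', V') Γ(X, U)
      Γ(X', g' ⁻¹ᵁ U ⊓ f' ⁻¹ᵁ V') Γ(F, U)).symm (s ⊗ₜ m)) = _
    rw [Algebra.IsPushout.cancelBaseChange_symm_tmul, IsBaseChange.equiv_tmul]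
    rfl
  have hΦG : ∀ (s : Γ(S', V')) (m : Γ(G, U)), ΦG (s ⊗ₜ m) =
      (f'.appLE V' (g' ⁻¹ᵁ U ⊓ f' ⁻¹ᵁ V') inf_le_right).hom s • pbSec g' G e1 m := by
    intro s m
    change hbcG.equiv ((Algebra.IsPushout.cancelBaseChange Γ(S, V) Γ(S', V') Γ(X, U)
      Γ(X', g' ⁻¹ᵁ U ⊓ f' ⁻¹ᵁ V') Γ(G, U)).symm (s ⊗ₜ m)) = _
    rw [Algebra.IsPushout.cancelBaseChange_symm_tmul, IsBaseChange.equiv_tmul]
    rfl
  have hcomm : ∀ z, ΦG (((appLinear u U).restrictScalars Γ(S, V)).lTensor Γ(S', V') z) =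
      ((Scheme.Modules.pullback g').map u).app (g' ⁻¹ᵁ U ⊓ f' ⁻¹ᵁ V') (ΦF z) := by
    intro z
    induction z using TensorProduct.induction_on with
    | zero => simp
    | add a b ha hb => rw [map_add, map_add, map_add, map_add, ha, hb]
    | tmul s m =>
      rw [LinearMap.lTensor_tmul, hΦG, hΦF, Scheme.Modules.Hom.app_smul, pbSec_naturality]
      rfl
  constructor
  · intro h a b hab
    have h1 : ΦF.symm a = ΦF.symm b := by
      apply h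
      apply ΦG.injective
      rw [hcomm, hcomm, LinearEquiv.apply_symm_apply, LinearEquiv.apply_symm_apply, hab]
    exact ΦF.symm.injective h1
  · intro h a b hab
    apply ΦF.injective
    apply h
    rw [← hcomm, ← hcomm, hab]

end BaseChange

section Pointwise

variable {X : Scheme.{u}}

/-- a map of quasi-coherent modules is injective on the sections over an affine open iff it is
injective on the stalks at all of its points -/
theorem injective_app_iff_forall_injective_stalkFun {F G : X.Modules} [F.IsQuasicoherent]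
    [G.IsQuasicoherent] (u : F ⟶ G) {U : X.Opens} (hU : IsAffineOpen U) :
    Function.Injective (u.app U) ↔ ∀ x ∈ U, Function.Injective (stalkFun u x) := by
  constructor
  · intro h x hx
    rw [injective_stalkFun_iff u hU x hx]
    intro s hs
    have : s = 0 := h (by rw [← appLinear_apply, hs, map_zero])
    exact ⟨1, Submonoid.one_mem _, by rw [this, smul_zero]⟩
  · intro h
    rw [injective_iff_map_eq_zero]
    intro s hs
    by_contra hne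
    -- the annihilator of `s` is a proper ideal, contained in a maximal ideal
    have hann : (Submodule.span Γ(X, U) {s}).annihilator ≠ ⊤ := by
      intro htop
      apply hne
      have h1 : (1 : Γ(X, U)) ∈ (Submodule.span Γ(X, U) {s}).annihilator := htop ▸ trivial
      have := (Submodule.mem_annihilator_span_singleton s 1).mp h1
      rwa [one_smul] at this
    obtain ⟨P, hP, hle⟩ := Ideal.exists_le_maximal _ hann
    let y : PrimeSpectrum Γ(X, U) := ⟨P, hP.isPrime⟩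
    have hy : hU.fromSpec y ∈ U := fromSpec_mem hU y
    obtain ⟨τ, hτ, hτs⟩ := (injective_stalkFun_iff u hU (hU.fromSpec y) hy).mp
      (h _ hy) s (by rw [appLinear_apply, hs])
    rw [primeIdealOf_fromSpec hU y hy] at hτ
    exact hτ (hle ((Submodule.mem_annihilator_span_singleton s τ).mpr hτs))

end Pointwise

end Groth.Agent.H3.InjLim
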