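import Groth.Agent.Lib.Helper3.InjLim.B
import Groth.Agent.Lib.Helper3.ArtFlat.Fam2
import Groth.Agent.Lib.Helper5.Lim.ModuleIso
import Groth.Agent.Lib.Lead.FPExt.Quot

/-!
# The predicate "injective on the stalk with flat cokernel" and its transport
-/

set_option autoImplicit false
universe u
open CategoryTheory CategoryTheory.Limits AlgebraicGeometry TopologicalSpace Opposite TensorProduct

namespace Groth.Agent.H3.InjLim

open Groth.Agent.LD.QC Groth.Agent.LD.RelFP Groth.Agent.LD.FF Groth.Agent.H1.SchFlat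
  Groth.Agent.H3.ArtFlat

section IF

variable {X S : Scheme.{u}}

/-- the stalk map is injective and the cokernel is flat over the base at the point -/
def IF (f : X ⟶ S) {F G : X.Modules} (u : F ⟶ G) (x : X) : Prop :=
  Function.Injective (stalkFun u x) ∧ FlatMod.IsFlatOverAt f (cokernel u) x

lemma injective_stalkFun_of_arrow_iso {F G F' G' : X.Modules} (u : F ⟶ G) (u' : F' ⟶ G')
    (a : F ≅ F') (b : G ≅ G') (w : a.hom ≫ u' = u ≫ b.hom) (x : X)
    (h : Function.Injective (stalkFun u x)) : Function.Injective (stalkFun u' x) := by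
  intro m m' hmm
  have h1 : ∀ z : F'.presheaf.stalk x, stalkFun u' x z =
      stalkFun b.hom x (stalkFun u x (stalkFun a.inv x z)) := by
    intro z
    rw [stalkFun_comp_apply, stalkFun_comp_apply]
    have : a.inv ≫ u ≫ b.hom = u' := by
      rw [← w, Iso.inv_hom_id_assoc]
    rw [this]
  have hb : Function.Injective (stalkFun b.hom x) := by
    intro z z' hz
    have := congrArg (stalkFun b.inv x) hz
    rwa [stalkFun_comp_apply, stalkFun_comp_apply, b.hom_inv_id, stalkFun_id_apply,
      stalkFun_id_apply] at this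
  have ha : Function.Injective (stalkFun a.inv x) := by
    intro z z' hz
    have := congrArg (stalkFun a.hom x) hz
    rwa [stalkFun_comp_apply, stalkFun_comp_apply, a.inv_hom_id, stalkFun_id_apply,
      stalkFun_id_apply] at this
  rw [h1, h1] at hmm
  exact ha (h (hb hmm))

lemma IF_of_arrow_iso (f : X ⟶ S) {F G F' G' : X.Modules} (u : F ⟶ G) (u' : F' ⟶ G')
    (a : F ≅ F') (b : G ≅ G') (w : a.hom ≫ u' = u ≫ b.hom) (x : X) (h : IF f u x) :
    IF f u' x := by
  refine ⟨injective_stalkFun_of_arrow_iso u u' a b w x h.1, ?_⟩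
  exact isFlatOverAt_of_iso f (cokernel.mapIso u u' a b w.symm) x h.2

lemma IF_iff_of_arrow_iso (f : X ⟶ S) {F G F' G' : X.Modules} (u : F ⟶ G) (u' : F' ⟶ G')
    (a : F ≅ F') (b : G ≅ G') (w : a.hom ≫ u' = u ≫ b.hom) (x : X) :
    IF f u x ↔ IF f u' x :=
  ⟨IF_of_arrow_iso f u u' a b w x, IF_of_arrow_iso f u' u a.symm b.symm (by
    rw [Iso.symm_hom, Iso.symm_hom, Iso.inv_comp_eq, ← Category.assoc, Iso.eq_comp_inv]
    exact w.symm) x⟩

end IF

section Comp

variable {W X Y S : Scheme.{u}}

/-- the pullback of a pullback of a map of modules, compared with the pullback along the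
composite -/
lemma IF_pullback_comp (a : W ⟶ X) (b : X ⟶ Y) {c : W ⟶ Y} (hc : a ≫ b = c) (q : W ⟶ S)
    {F G : Y.Modules} (χ : F ⟶ G) (w : W) :
    IF q ((Scheme.Modules.pullback a).map ((Scheme.Modules.pullback b).map χ)) w ↔
      IF q ((Scheme.Modules.pullback c).map χ) w := by
  refine IF_iff_of_arrow_iso q _ _ ((Groth.Agent.H5.Lim.pullbackCompIso a b c hc).app F)
    ((Groth.Agent.H5.Lim.pullbackCompIso a b c hc).app G) ?_ w
  exact ((Groth.Agent.H5.Lim.pullbackCompIso a b c hc).hom.naturality χ).symm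

lemma injective_stalkFun_pullback_comp (a : W ⟶ X) (b : X ⟶ Y) {c : W ⟶ Y} (hc : a ≫ b = c)
    {F G : Y.Modules} (χ : F ⟶ G) (w : W) :
    Function.Injective
        (stalkFun ((Scheme.Modules.pullback a).map ((Scheme.Modules.pullback b).map χ)) w) ↔
      Function.Injective (stalkFun ((Scheme.Modules.pullback c).map χ) w) := by
  have hn := ((Groth.Agent.H5.Lim.pullbackCompIso a b c hc).hom.naturality χ).symm
  constructor
  · exact injective_stalkFun_of_arrow_iso _ _
      ((Groth.Agent.H5.Lim.pullbackCompIso a b c hc).app F)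
      ((Groth.Agent.H5.Lim.pullbackCompIso a b c hc).app G) hn w
  · refine injective_stalkFun_of_arrow_iso _ _
      ((Groth.Agent.H5.Lim.pullbackCompIso a b c hc).app F).symm
      ((Groth.Agent.H5.Lim.pullbackCompIso a b c hc).app G).symm ?_ w
    have := (Groth.Agent.H5.Lim.pullbackCompIso a b c hc).inv.naturality χ
    exact this.symm

/-- flatness of the cokernel of a pulled back map is flatness of the pullback of the cokernel -/
lemma isFlatOverAt_cokernel_pullback_iff (a : W ⟶ X) (q : W ⟶ S) {F G : X.Modules} (χ : F ⟶ G)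
    (w : W) :
    FlatMod.IsFlatOverAt q (cokernel ((Scheme.Modules.pullback a).map χ)) w ↔
      FlatMod.IsFlatOverAt q ((Scheme.Modules.pullback a).obj (cokernel χ)) w :=
  ⟨isFlatOverAt_of_iso q (PreservesCokernel.iso (Scheme.Modules.pullback a) χ).symm w,
    isFlatOverAt_of_iso q (PreservesCokernel.iso (Scheme.Modules.pullback a) χ) w⟩

end Comp

end Groth.Agent.H3.InjLim
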