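import Groth.Agent.Lib.Helper3.InjLim.C

/-!
# EGA IV 11.2.6 (ii): injectivity descends to a stage, when the cokernel is flat over the base stage
-/

set_option autoImplicit false
universe u
open CategoryTheory CategoryTheory.Limits AlgebraicGeometry TopologicalSpace Opposite TensorProduct

namespace Groth.Agent.H3.InjLim

open Groth.Agent.LD.QC Groth.Agent.LD.RelFP Groth.Agent.LD.FF Groth.Agent.H1.SchFlat
  Groth.Agent.H3.ArtFlat Groth.Agent.H5.Lim

section LimitStage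

variable {I : Type u} [SmallCategory I] [IsCofiltered I] (D : I ⥤ Scheme.{u}) (c : Cone D)
  (hc : IsLimit c) [∀ (i j : I) (f : i ⟶ j), IsAffineHom (D.map f)] (i₀ : I)

include hc in
set_option maxHeartbeats 1600000 in
/-- **EGA IV 11.2.6 (ii), over a quasi-compact open, cokernel flat over the base stage.** -/
theorem exists_stage_injective_of_isCompact {X₀ : Scheme.{u}} (f₀ : X₀ ⟶ D.obj i₀)
    [LocallyOfFinitePresentation f₀] (F₀ G₀ : X₀.Modules) [F₀.IsQuasicoherent]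
    [G₀.IsQuasicoherent] (hF₀ : F₀.IsFinitePresentation) (hG₀ : G₀.IsFinitePresentation)
    (h₀ : F₀ ⟶ G₀) {Xl : Scheme.{u}} (gl : Xl ⟶ X₀) (fl : Xl ⟶ c.pt)
    (hsq : IsPullback gl fl f₀ (c.π.app i₀)) (U₀ : X₀.Opens) (hU₀ : IsCompact (U₀ : Set X₀))
    (hflat : ∀ y ∈ U₀, FlatMod.IsFlatOverAt f₀ (cokernel h₀) y)
    (h : ∀ y : Xl, gl y ∈ U₀ →
      Function.Injective (stalkFun ((Scheme.Modules.pullback gl).map h₀) y)) :
    ∃ k : Over i₀, ∀ (k' : Over i₀) (_ : k' ⟶ k) {X' : Scheme.{u}} (g' : X' ⟶ X₀)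
      (f' : X' ⟶ D.obj k'.left), IsPullback g' f' f₀ (D.map k'.hom) →
        ∀ y : X', g' y ∈ U₀ →
          Function.Injective (stalkFun ((Scheme.Modules.pullback g').map h₀) y) := by
  classical
  haveI hCq : (cokernel h₀).IsQuasicoherent := qc_cokernel h₀ inferInstance inferInstance
  have hCfp : (cokernel h₀).IsFinitePresentation :=
    Groth.Agent.LD.FPExt.isFinitePresentation_cokernel inferInstance hG₀ h₀
  let Pair := {p : X₀.affineOpens × (D.obj i₀).affineOpens //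
    p.1.1 ≤ f₀ ⁻¹ᵁ p.2.1 ∧ p.1.1 ≤ U₀}
  have hpair : ∀ x : (U₀ : Set X₀), ∃ p : Pair, x.1 ∈ p.1.1.1 := by
    intro x
    obtain ⟨V, hV, hxV, -⟩ := exists_isAffineOpen_mem_and_subset (x := f₀ x.1)
      (U := (⊤ : (D.obj i₀).Opens)) trivial
    obtain ⟨U, hU, hxU, hUV⟩ := exists_isAffineOpen_mem_and_subset (x := x.1)
      (U := f₀ ⁻¹ᵁ V ⊓ U₀) ⟨hxV, x.2⟩
    exact ⟨⟨(⟨U, hU⟩, ⟨V, hV⟩), ⟨hUV.trans inf_le_left, hUV.trans inf_le_right⟩⟩, hxU⟩
  choose pp hpp using hpair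
  obtain ⟨s, hs⟩ := hU₀.elim_finite_subcover
    (fun x : (U₀ : Set X₀) => ((pp x).1.1.1 : Set X₀))
    (fun x => (pp x).1.1.1.2) (fun y hy => Set.mem_iUnion.2 ⟨⟨y, hy⟩, hpp ⟨y, hy⟩⟩)
  let t : Finset Pair := s.image pp
  have ht : ∀ x : X₀, x ∈ U₀ → ∃ p ∈ t, x ∈ p.1.1.1 := by
    intro x hx
    obtain ⟨y, hy⟩ := Set.mem_iUnion.1 (hs hx)
    obtain ⟨hys, hxy⟩ := Set.mem_iUnion.1 hy
    exact ⟨pp y, Finset.mem_image_of_mem pp hys, hxy⟩
  let P : Pair → Over i₀ → Prop := fun p k =>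
    ∀ (k' : Over i₀) (_ : k' ⟶ k),
      letI := stageAlgebra D i₀ p.1.2.1
      letI := algΓ f₀ p.2.1
      letI := sectionsModuleOver f₀ F₀ p.2.1
      letI := sectionsModuleOver f₀ G₀ p.2.1
      haveI := isScalarTower_sections f₀ F₀ p.2.1
      haveI := isScalarTower_sections f₀ G₀ p.2.1
      Function.Injective (((appLinear h₀ p.1.1.1).restrictScalars Γ(D.obj i₀, p.1.2.1)).lTensor
        Γ(D.obj k'.left, stageOpen D i₀ p.1.2.1 k'))
  have hP : ∀ p ∈ (t : Set Pair), ∃ k, P p k := by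
    intro p _
    have hV : IsAffineOpen p.1.2.1 := p.1.2.2
    letI := stageAlgebra D i₀ p.1.2.1
    letI := limAlgebra D c i₀ p.1.2.1
    letI : Algebra Γ(D.obj i₀, p.1.2.1) Γ(X₀, p.1.1.1) := algΓ f₀ p.2.1
    letI := sectionsModuleOver f₀ F₀ p.2.1
    letI := sectionsModuleOver f₀ G₀ p.2.1
    letI := sectionsModuleOver f₀ (cokernel h₀) p.2.1
    haveI : IsScalarTower Γ(D.obj i₀, p.1.2.1) Γ(X₀, p.1.1.1) Γ(F₀, p.1.1.1) :=
      isScalarTower_sections f₀ F₀ p.2.1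
    haveI : IsScalarTower Γ(D.obj i₀, p.1.2.1) Γ(X₀, p.1.1.1) Γ(G₀, p.1.1.1) :=
      isScalarTower_sections f₀ G₀ p.2.1
    haveI : IsScalarTower Γ(D.obj i₀, p.1.2.1) Γ(X₀, p.1.1.1) Γ(cokernel h₀, p.1.1.1) :=
      isScalarTower_sections f₀ (cokernel h₀) p.2.1
    haveI : Algebra.FinitePresentation Γ(D.obj i₀, p.1.2.1) Γ(X₀, p.1.1.1) :=
      f₀.finitePresentation_appLE hV p.1.1.2 p.2.1
    haveI : Module.FinitePresentation Γ(X₀, p.1.1.1) Γ(F₀, p.1.1.1) :=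
      finitePresentation_sections_of_isFinitePresentation F₀ hF₀ p.1.1.2
    haveI : Module.FinitePresentation Γ(X₀, p.1.1.1) Γ(G₀, p.1.1.1) :=
      finitePresentation_sections_of_isFinitePresentation G₀ hG₀ p.1.1.2
    haveI : Module.FinitePresentation Γ(X₀, p.1.1.1) Γ(cokernel h₀, p.1.1.1) :=
      finitePresentation_sections_of_isFinitePresentation (cokernel h₀) hCfp p.1.1.2
    haveI : Module.Flat Γ(D.obj i₀, p.1.2.1) Γ(cokernel h₀, p.1.1.1) :=
      flat_sections_of_isFlatOverAt f₀ (cokernel h₀) p.1.1.2 hV p.2.1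
        (fun x' hx' => hflat x' (p.2.2 hx'))
    obtain ⟨hex, hsurj⟩ := exact_app_cokernel (inferInstance : F₀.IsQuasicoherent)
      (inferInstance : G₀.IsQuasicoherent) h₀ p.1.1.2
    have hinj : Function.Injective
        (((appLinear h₀ p.1.1.1).restrictScalars Γ(D.obj i₀, p.1.2.1)).lTensor
          Γ(c.pt, limOpen D c i₀ p.1.2.1)) := by
      haveI := qc_pullback gl F₀
      haveI := qc_pullback gl G₀
      refine (injective_lTensor_iff_injective_sections f₀ fl gl (c.π.app i₀) hsq h₀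
        (V' := limOpen D c i₀ p.1.2.1) le_rfl p.2.1 hV
        (isAffineOpen_limOpen D c hc i₀ p.1.2.1 hV) p.1.1.2).2 ?_
      rw [injective_app_iff_forall_injective_stalkFun _
        (isAffineOpen_inf_of_isPullback f₀ fl gl (c.π.app i₀) hsq le_rfl p.2.1 hV
          (isAffineOpen_limOpen D c hc i₀ p.1.2.1 hV) p.1.1.2)]
      intro x' hx'
      exact h x' (p.2.2 hx'.1)
    obtain ⟨k, θ, -, hk⟩ := exists_stage_injective
      (weakColimitOpens D c i₀ p.1.2.1 hc hV) Γ(X₀, p.1.1.1) (appLinear h₀ p.1.1.1)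
      (appLinear (cokernel.π h₀) p.1.1.1) hex hsurj hinj (Over.mk (𝟙 i₀))
    refine ⟨k, fun k' a => ?_⟩
    exact hk _ (stageTransAlgHom D i₀ p.1.2.1 a)
  have hmono : ∀ (p : Pair) (k k' : Over i₀) (_ : k' ⟶ k), P p k → P p k' := by
    intro p k k' a hk k'' b
    exact hk k'' (b ≫ a)
  obtain ⟨k, -, hk⟩ := exists_common_stage (t : Set Pair) t.finite_toSet P hP hmono
    (Over.mk (𝟙 i₀))
  refine ⟨k, ?_⟩
  intro k' a X' g' f' hsq' x hxU₀
  obtain ⟨p, hpt, hxU⟩ := ht (g' x) hxU₀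
  have hw : (D.map k'.hom) (f' x) = f₀ (g' x) := by
    have := congrArg (fun φ : X' ⟶ D.obj i₀ => φ x) hsq'.w
    exact this.symm
  have hxV : x ∈ f' ⁻¹ᵁ stageOpen D i₀ p.1.2.1 k' := by
    change (D.map k'.hom) (f' x) ∈ p.1.2.1
    rw [hw]
    exact p.2.1 hxU
  haveI := qc_pullback g' F₀
  haveI := qc_pullback g' G₀
  have h1 := (injective_lTensor_iff_injective_sections f₀ f' g' (D.map k'.hom) hsq' h₀
    (V' := stageOpen D i₀ p.1.2.1 k') le_rfl p.2.1 p.1.2.2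
    (isAffineOpen_stageOpen D i₀ p.1.2.1 p.1.2.2 k') p.1.1.2).1 (hk p hpt k' a)
  exact (injective_app_iff_forall_injective_stalkFun _
    (isAffineOpen_inf_of_isPullback f₀ f' g' (D.map k'.hom) hsq' le_rfl p.2.1 p.1.2.2
      (isAffineOpen_stageOpen D i₀ p.1.2.1 p.1.2.2 k') p.1.1.2)).1 h1 x ⟨hxU, hxV⟩

end LimitStage

end Groth.Agent.H3.InjLim
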