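import Groth.Agent.Lib.Helper3.InjLim.D

/-!
# EGA IV 11.2.6 (ii): injectivity with flat cokernel descends to a stage
-/

set_option autoImplicit false
universe u
open CategoryTheory CategoryTheory.Limits AlgebraicGeometry TopologicalSpace Opposite TensorProduct

namespace Groth.Agent.H3.InjLim

open Groth.Agent.LD.QC Groth.Agent.LD.RelFP Groth.Agent.LD.FF Groth.Agent.H1.SchFlat
  Groth.Agent.H3.ArtFlat Groth.Agent.H5.Lim

section LimitStage

variable {I : Type u} [SmallCategory I] [IsCofiltered I] (D : I ⥤ Scheme.{u}) (c : Cone D)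
  (hc : IsLimit c) [∀ (i j : I) (f : i ⟶ j), IsAffineHom (D.map f)] (i₀ : I)

include hc in
set_option maxHeartbeats 1600000 in
/-- **EGA IV 11.2.6 (ii), over a quasi-compact open.** -/
theorem exists_stage_IF_of_isCompact {X₀ : Scheme.{u}} (f₀ : X₀ ⟶ D.obj i₀)
    [LocallyOfFinitePresentation f₀] (F₀ G₀ : X₀.Modules) [F₀.IsQuasicoherent]
    [G₀.IsQuasicoherent] (hF₀ : F₀.IsFinitePresentation) (hG₀ : G₀.IsFinitePresentation)
    (h₀ : F₀ ⟶ G₀) {Xl : Scheme.{u}} (gl : Xl ⟶ X₀) (fl : Xl ⟶ c.pt)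
    (hsq : IsPullback gl fl f₀ (c.π.app i₀)) (U₀ : X₀.Opens) (hU₀ : IsCompact (U₀ : Set X₀))
    (h : ∀ y : Xl, gl y ∈ U₀ → IF fl ((Scheme.Modules.pullback gl).map h₀) y) :
    ∃ k : Over i₀, ∀ (k' : Over i₀) (_ : k' ⟶ k) {X' : Scheme.{u}} (g' : X' ⟶ X₀)
      (f' : X' ⟶ D.obj k'.left), IsPullback g' f' f₀ (D.map k'.hom) →
        ∀ y : X', g' y ∈ U₀ → IF f' ((Scheme.Modules.pullback g').map h₀) y := by
  classical
  haveI hCq : (cokernel h₀).IsQuasicoherent := qc_cokernel h₀ inferInstance inferInstance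
  have hCfp : (cokernel h₀).IsFinitePresentation :=
    Groth.Agent.LD.FPExt.isFinitePresentation_cokernel inferInstance hG₀ h₀
  -- Phase 1: flatness of the cokernel
  obtain ⟨k₁, hk₁⟩ := exists_stage_isFlatOverAt_of_isCompact D c hc i₀ f₀ (cokernel h₀) hCfp gl fl
    hsq U₀ hU₀ (fun y hy => (isFlatOverAt_cokernel_pullback_iff gl fl h₀ y).1 (h y hy).2)
  -- Phase 2: re-base at `k₁`
  let p₁ : pullback f₀ (D.map k₁.hom) ⟶ X₀ := pullback.fst f₀ (D.map k₁.hom)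
  let f₁ : pullback f₀ (D.map k₁.hom) ⟶ D.obj k₁.left := pullback.snd f₀ (D.map k₁.hom)
  haveI : LocallyOfFinitePresentation f₁ :=
    MorphismProperty.pullback_snd (P := @LocallyOfFinitePresentation) _ _ inferInstance
  haveI : IsAffineHom p₁ :=
    MorphismProperty.pullback_fst (P := @IsAffineHom) _ _ inferInstance
  let U₁ : (pullback f₀ (D.map k₁.hom)).Opens := p₁ ⁻¹ᵁ U₀
  have hU₁ : IsCompact (U₁ : Set ↥(pullback f₀ (D.map k₁.hom))) :=
    QuasiCompact.isCompact_preimage (f := p₁) _ U₀.2 hU₀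
  have hwj : gl ≫ f₀ = (fl ≫ c.π.app k₁.left) ≫ D.map k₁.hom := by
    rw [Category.assoc, c.w, hsq.w]
  let vj : Xl ⟶ pullback f₀ (D.map k₁.hom) := pullback.lift gl (fl ≫ c.π.app k₁.left) hwj
  have hvj1 : vj ≫ p₁ = gl := pullback.lift_fst _ _ _
  have hvj2 : vj ≫ f₁ = fl ≫ c.π.app k₁.left := pullback.lift_snd _ _ _
  have hsqj : IsPullback vj fl f₁ (c.π.app k₁.left) := by
    refine IsPullback.of_right ?_ hvj2 (IsPullback.of_hasPullback f₀ (D.map k₁.hom))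
    rw [hvj1, c.w]
    exact hsq
  haveI := qc_pullback p₁ F₀
  haveI := qc_pullback p₁ G₀
  have hF₁ := isFinitePresentation_pullback p₁ F₀ hF₀
  have hG₁ := isFinitePresentation_pullback p₁ G₀ hG₀
  have hflat₁ : ∀ y ∈ U₁, FlatMod.IsFlatOverAt f₁
      (cokernel ((Scheme.Modules.pullback p₁).map h₀)) y := fun y hy =>
    (isFlatOverAt_cokernel_pullback_iff p₁ f₁ h₀ y).2
      (hk₁ k₁ (𝟙 k₁) p₁ f₁ (IsPullback.of_hasPullback _ _) y hy)
  have hinj₁ : ∀ y : Xl, vj y ∈ U₁ → Function.Injective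
      (stalkFun ((Scheme.Modules.pullback vj).map ((Scheme.Modules.pullback p₁).map h₀)) y) := by
    intro y hy
    have hgl : gl y ∈ U₀ := by
      have h1 : p₁ (vj y) = gl y := by rw [← hvj1]; rfl
      rw [← h1]
      exact hy
    exact (injective_stalkFun_pullback_comp vj p₁ hvj1 h₀ y).2 (h y hgl).1
  obtain ⟨k₂, hk₂⟩ := exists_stage_injective_of_isCompact D c hc k₁.left f₁ _ _ hF₁ hG₁
    ((Scheme.Modules.pullback p₁).map h₀) vj fl hsqj U₁ hU₁ hflat₁ hinj₁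
  refine ⟨Over.mk (k₂.hom ≫ k₁.hom), ?_⟩
  intro k' a X' g' f' hsq' y hy
  have ha : a.left ≫ k₂.hom ≫ k₁.hom = k'.hom := Over.w a
  let k'' : Over k₁.left := Over.mk (a.left ≫ k₂.hom)
  let b : k'' ⟶ k₂ := Over.homMk a.left rfl
  let a₁ : k' ⟶ k₁ := Over.homMk (a.left ≫ k₂.hom) (by rw [Category.assoc]; exact ha)
  refine ⟨?_, (isFlatOverAt_cokernel_pullback_iff g' f' h₀ y).2 (hk₁ k' a₁ g' f' hsq' y hy)⟩
  have hsq'' : IsPullback g' f' f₀ (D.map (a.left ≫ k₂.hom) ≫ D.map k₁.hom) := by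
    rw [← D.map_comp, Category.assoc, ha]
    exact hsq'
  have hw' : g' ≫ f₀ = (f' ≫ D.map (a.left ≫ k₂.hom)) ≫ D.map k₁.hom := by
    rw [Category.assoc]
    exact hsq''.w
  let t : X' ⟶ pullback f₀ (D.map k₁.hom) :=
    pullback.lift g' (f' ≫ D.map (a.left ≫ k₂.hom)) hw'
  have ht1 : t ≫ p₁ = g' := pullback.lift_fst _ _ _
  have ht2 : t ≫ f₁ = f' ≫ D.map (a.left ≫ k₂.hom) := pullback.lift_snd _ _ _
  have hsqt : IsPullback t f' f₁ (D.map k''.hom) := by
    refine IsPullback.of_right ?_ ht2 (IsPullback.of_hasPullback f₀ (D.map k₁.hom))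
    rw [ht1]
    exact hsq''
  have hmem : t y ∈ U₁ := by
    change p₁ (t y) ∈ U₀
    have h1 : p₁ (t y) = g' y := by rw [← ht1]; rfl
    rw [h1]
    exact hy
  have := hk₂ k'' b t f' hsqt y hmem
  exact (injective_stalkFun_pullback_comp t p₁ ht1 h₀ y).1 this

include hc in
set_option maxHeartbeats 1600000 in
/-- **EGA IV 11.2.6 (ii), pointwise.** -/
theorem exists_stage_IF {X₀ : Scheme.{u}} (f₀ : X₀ ⟶ D.obj i₀)
    [LocallyOfFinitePresentation f₀] (F₀ G₀ : X₀.Modules) [F₀.IsQuasicoherent]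
    [G₀.IsQuasicoherent] (hF₀ : F₀.IsFinitePresentation) (hG₀ : G₀.IsFinitePresentation)
    (h₀ : F₀ ⟶ G₀) {Xl : Scheme.{u}} (gl : Xl ⟶ X₀) (fl : Xl ⟶ c.pt)
    (hsq : IsPullback gl fl f₀ (c.π.app i₀)) (x : Xl)
    (h : IF fl ((Scheme.Modules.pullback gl).map h₀) x) :
    ∃ k : Over i₀, ∀ {X' : Scheme.{u}} (g' : X' ⟶ X₀) (f' : X' ⟶ D.obj k.left),
      IsPullback g' f' f₀ (D.map k.hom) → ∀ v : Xl ⟶ X', v ≫ g' = gl →
        v ≫ f' = fl ≫ c.π.app k.left →
        IF f' ((Scheme.Modules.pullback g').map h₀) (v x) := by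
  classical
  haveI : LocallyOfFinitePresentation fl :=
    MorphismProperty.of_isPullback (P := @LocallyOfFinitePresentation) hsq inferInstance
  haveI := qc_pullback gl F₀
  haveI := qc_pullback gl G₀
  have hopen := isOpen_setOf_injective_and_flat_cokernel fl
    ((Scheme.Modules.pullback gl).obj G₀) ((Scheme.Modules.pullback gl).obj F₀)
    (isFinitePresentation_pullback gl G₀ hG₀) (isFinitePresentation_pullback gl F₀ hF₀)
    ((Scheme.Modules.pullback gl).map h₀)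
  obtain ⟨W, hW, hxW, hWO⟩ := exists_isAffineOpen_mem_and_subset (x := x)
    (U := (⟨_, hopen⟩ : Xl.Opens)) h
  haveI : ∀ (j k : Over i₀) (φ : j ⟶ k), IsAffineHom ((Groth.Agent.H5.Lim.bcDiagram D f₀).map φ) :=
    fun j k φ => Groth.Agent.H5.Lim.isAffineHom_bcMap D f₀ φ inferInstance
  let e : Xl ≅ pullback f₀ (c.π.app i₀) := hsq.isoPullback
  have hWc : IsCompact ((e.inv ⁻¹ᵁ W : (pullback f₀ (c.π.app i₀)).Opens) :
      Set ↥(pullback f₀ (c.π.app i₀))) :=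
    QuasiCompact.isCompact_preimage (f := e.inv) _ W.2 hW.isCompact
  obtain ⟨j, V₀, hVc₀, hVW₀⟩ := exists_preimage_eq (Groth.Agent.H5.Lim.bcDiagram D f₀)
    (Groth.Agent.H5.Lim.bcCone D c f₀)
    (Groth.Agent.H5.Lim.isLimitBcCone D c f₀ hc) (e.inv ⁻¹ᵁ W) hWc
  obtain ⟨V, hVc, hVW⟩ : ∃ V : (pullback f₀ (D.map j.hom)).Opens,
      IsCompact (V : Set ↥(pullback f₀ (D.map j.hom))) ∧
      ∀ z : ↥(pullback f₀ (c.π.app i₀)),
        (Groth.Agent.H5.Lim.bcProj D c f₀ j) z ∈ V ↔ z ∈ e.inv ⁻¹ᵁ W :=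
    ⟨V₀, hVc₀, fun z => SetLike.ext_iff.1 hVW₀ z⟩
  have hwj : gl ≫ f₀ = (fl ≫ c.π.app j.left) ≫ D.map j.hom := by
    rw [Category.assoc, c.w, hsq.w]
  let vj : Xl ⟶ pullback f₀ (D.map j.hom) := pullback.lift gl (fl ≫ c.π.app j.left) hwj
  have hvj1 : vj ≫ pullback.fst f₀ (D.map j.hom) = gl := pullback.lift_fst _ _ _
  have hvj2 : vj ≫ pullback.snd f₀ (D.map j.hom) = fl ≫ c.π.app j.left :=
    pullback.lift_snd _ _ _
  have hvj : vj = e.hom ≫ Groth.Agent.H5.Lim.bcProj D c f₀ j := by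
    apply pullback.hom_ext
    · rw [hvj1, Category.assoc, Groth.Agent.H5.Lim.bcProj_fst]
      exact (hsq.isoPullback_hom_fst).symm
    · rw [hvj2, Category.assoc, Groth.Agent.H5.Lim.bcProj_snd, ← Category.assoc]
      exact congrArg (· ≫ c.π.app j.left) (hsq.isoPullback_hom_snd).symm
  have hmemV : ∀ y : Xl, vj y ∈ V ↔ y ∈ W := by
    intro y
    have h1 : vj y = (Groth.Agent.H5.Lim.bcProj D c f₀ j) (e.hom y) := by rw [hvj]; rfl
    have h2 : e.inv (e.hom y) = y := by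
      have := congrArg (fun φ : Xl ⟶ Xl => φ y) e.hom_inv_id
      exact this
    have h3 : (Groth.Agent.H5.Lim.bcProj D c f₀ j) (e.hom y) ∈ V ↔ e.hom y ∈ e.inv ⁻¹ᵁ W :=
      hVW (e.hom y)
    rw [h1, h3]
    change e.inv (e.hom y) ∈ W ↔ _
    rw [h2]
  have hsqj : IsPullback vj fl (pullback.snd f₀ (D.map j.hom)) (c.π.app j.left) := by
    refine IsPullback.of_right ?_ hvj2 (IsPullback.of_hasPullback f₀ (D.map j.hom))
    rw [hvj1, c.w]
    exact hsq
  haveI : LocallyOfFinitePresentation (pullback.snd f₀ (D.map j.hom)) :=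
    MorphismProperty.pullback_snd (P := @LocallyOfFinitePresentation) _ _ inferInstance
  haveI := qc_pullback (pullback.fst f₀ (D.map j.hom)) F₀
  haveI := qc_pullback (pullback.fst f₀ (D.map j.hom)) G₀
  have hFj := isFinitePresentation_pullback (pullback.fst f₀ (D.map j.hom)) F₀ hF₀
  have hGj := isFinitePresentation_pullback (pullback.fst f₀ (D.map j.hom)) G₀ hG₀
  have hIFV : ∀ y : Xl, vj y ∈ V → IF fl
      ((Scheme.Modules.pullback vj).map
        ((Scheme.Modules.pullback (pullback.fst f₀ (D.map j.hom))).map h₀)) y := by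
    intro y hy
    have hyW : y ∈ W := (hmemV y).1 hy
    exact (IF_pullback_comp vj (pullback.fst f₀ (D.map j.hom)) hvj1 fl h₀ y).2 (hWO hyW)
  obtain ⟨k₂, hk₂⟩ := exists_stage_IF_of_isCompact D c hc j.left
    (pullback.snd f₀ (D.map j.hom)) _ _ hFj hGj
    ((Scheme.Modules.pullback (pullback.fst f₀ (D.map j.hom))).map h₀) vj fl hsqj V hVc hIFV
  refine ⟨Over.mk (k₂.hom ≫ j.hom), ?_⟩
  intro X' g' f' hsq' v hv1 hv2
  have hsq'' : IsPullback g' f' f₀ (D.map k₂.hom ≫ D.map j.hom) := by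
    rw [← D.map_comp]; exact hsq'
  have hw' : g' ≫ f₀ = (f' ≫ D.map k₂.hom) ≫ D.map j.hom := by
    rw [Category.assoc]; exact hsq''.w
  let t : X' ⟶ pullback f₀ (D.map j.hom) := pullback.lift g' (f' ≫ D.map k₂.hom) hw'
  have ht1 : t ≫ pullback.fst f₀ (D.map j.hom) = g' := pullback.lift_fst _ _ _
  have ht2 : t ≫ pullback.snd f₀ (D.map j.hom) = f' ≫ D.map k₂.hom := pullback.lift_snd _ _ _
  have hsqt : IsPullback t f' (pullback.snd f₀ (D.map j.hom)) (D.map k₂.hom) := by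
    refine IsPullback.of_right ?_ ht2 (IsPullback.of_hasPullback f₀ (D.map j.hom))
    rw [ht1]
    exact hsq''
  have hvt : v ≫ t = vj := by
    apply pullback.hom_ext
    · rw [Category.assoc, ht1, hv1, hvj1]
    · rw [Category.assoc, ht2, ← Category.assoc, hv2, hvj2, Category.assoc]
      exact congrArg (fl ≫ ·) (c.w k₂.hom)
  have hmem : t (v x) ∈ V := by
    have h1 : t (v x) = vj x := by rw [← hvt]; rfl
    rw [h1]
    exact (hmemV x).2 hxW
  have hfin := hk₂ k₂ (𝟙 k₂) t f' hsqt (v x) hmem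
  exact (IF_pullback_comp t (pullback.fst f₀ (D.map j.hom)) ht1 f' h₀ (v x)).1 hfin

end LimitStage

end Groth.Agent.H3.InjLim
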