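import Groth.Agent.Lib.Helper3.InjLim.E

/-!
# S4901 (EGA IV 11.2.6 (ii)): injective stalk map with flat cokernel, in the limit
-/

set_option autoImplicit false
universe u
open CategoryTheory CategoryTheory.Limits AlgebraicGeometry TopologicalSpace Opposite TensorProduct

namespace Groth.Agent.H3.InjLim

open Groth.Agent.LD.QC Groth.Agent.LD.RelFP Groth.Agent.LD.FF Groth.Agent.H1.SchFlat
  Groth.Agent.H3.ArtFlat Groth.Agent.H5.Lim

section BaseChange

variable {X S X' S' : Scheme.{u}} (f : X ⟶ S) (f' : X' ⟶ S') (g' : X' ⟶ X) (g : S' ⟶ S)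

set_option maxHeartbeats 1600000 in
/-- "injective on the stalk with flat cokernel" is stable under base change -/
theorem IF_pullback_of_isPullback (hc : IsPullback g' f' f g) [LocallyOfFinitePresentation f]
    {F G : X.Modules} [hFq : F.IsQuasicoherent] [hGq : G.IsQuasicoherent]
    (hF : F.IsFinitePresentation) (hG : G.IsFinitePresentation) (u : F ⟶ G) (x' : X')
    (h : IF f u (g' x')) : IF f' ((Scheme.Modules.pullback g').map u) x' := by
  haveI hCq : (cokernel u).IsQuasicoherent := qc_cokernel u hFq hGq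
  refine ⟨?_, (isFlatOverAt_cokernel_pullback_iff g' f' u x').2
    (isFlatOverAt_pullback_of_isPullback hc (cokernel u) x' h.2)⟩
  have hopen := isOpen_setOf_injective_and_flat_cokernel f G F hG hF u
  obtain ⟨V, hV, hfxV, -⟩ := exists_isAffineOpen_mem_and_subset (x := f (g' x')) (U := ⊤) trivial
  obtain ⟨U, hU, hxU, hUO⟩ := exists_isAffineOpen_mem_and_subset (x := g' x')
    (U := f ⁻¹ᵁ V ⊓ (⟨_, hopen⟩ : X.Opens)) ⟨hfxV, h⟩
  have hUV : U ≤ f ⁻¹ᵁ V := hUO.trans inf_le_left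
  have hUW : ∀ y ∈ U, IF f u y := fun y hy => (hUO hy).2
  have hgf : g (f' x') = f (g' x') := by
    have := congrArg (fun φ : X' ⟶ S => φ x') hc.w
    exact this.symm
  obtain ⟨V', hV', hxV', hV'V⟩ := exists_isAffineOpen_mem_and_subset (x := f' x')
    (U := g ⁻¹ᵁ V) (by change g (f' x') ∈ V; rw [hgf]; exact hfxV)
  letI : Algebra Γ(S, V) Γ(S', V') := (g.appLE V V' hV'V).hom.toAlgebra
  letI := algΓ f hUV
  letI := sectionsModuleOver f F hUV
  letI := sectionsModuleOver f G hUV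
  letI := sectionsModuleOver f (cokernel u) hUV
  haveI := isScalarTower_sections f F hUV
  haveI := isScalarTower_sections f G hUV
  haveI := isScalarTower_sections f (cokernel u) hUV
  haveI : Module.Flat Γ(S, V) Γ(cokernel u, U) :=
    flat_sections_of_isFlatOverAt f (cokernel u) hU hV hUV (fun y hy => (hUW y hy).2)
  have hinjU : Function.Injective (u.app U) :=
    (injective_app_iff_forall_injective_stalkFun u hU).2 (fun y hy => (hUW y hy).1)
  obtain ⟨hex, hsurj⟩ := exact_app_cokernel hFq hGq u hU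
  have hten : Function.Injective
      (((appLinear u U).restrictScalars Γ(S, V)).lTensor Γ(S', V')) := by
    rw [← LinearMap.ker_eq_bot, ker_lTensor_eq_range ((appLinear u U).restrictScalars Γ(S, V))
      ((appLinear (cokernel.π u) U).restrictScalars Γ(S, V)) hex hsurj Γ(S', V'),
      LinearMap.range_eq_bot]
    apply TensorProduct.ext'
    intro s m
    rw [LinearMap.lTensor_tmul, LinearMap.zero_apply]
    have hm : (m : Γ(F, U)) = 0 := by
      apply hinjU
      have := LinearMap.mem_ker.mp m.2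
      rw [map_zero]
      exact this
    change s ⊗ₜ[Γ(S, V)] (m : Γ(F, U)) = 0
    rw [hm, TensorProduct.tmul_zero]
  haveI := qc_pullback g' F
  haveI := qc_pullback g' G
  have h1 := (injective_lTensor_iff_injective_sections f f' g' g hc u hV'V hUV hV hV' hU).1 hten
  exact (injective_app_iff_forall_injective_stalkFun _
    (isAffineOpen_inf_of_isPullback f f' g' g hc hV'V hUV hV hV' hU)).1 h1 x' ⟨hxU, hxV'⟩

end BaseChange

set_option maxHeartbeats 1600000 in
/-- **S4901** (EGA IV 11.2.6 (ii), pointwise). -/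
theorem s4901 {I : Type u} [SmallCategory I] [IsCofiltered I]
    (D : I ⥤ Scheme.{u}) (c : Limits.Cone D) (hc : Limits.IsLimit c)
    [∀ (i j : I) (φ : i ⟶ j), IsAffineHom (D.map φ)] (i₀ : I)
    {X₀ Y₀ : Scheme.{u}} (f₀ : X₀ ⟶ Y₀) (g₀ : Y₀ ⟶ D.obj i₀) [LocallyOfFinitePresentation f₀]
    (F₀ G₀ : X₀.Modules) [F₀.IsQuasicoherent] [G₀.IsQuasicoherent]
    (hF₀ : F₀.IsFinitePresentation) (hG₀ : G₀.IsFinitePresentation) (h₀ : F₀ ⟶ G₀)
    {X Y : Scheme.{u}} (f : X ⟶ Y) (g : Y ⟶ c.pt) (qY : Y ⟶ Y₀) (qX : X ⟶ X₀)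
    (hY : IsPullback qY g g₀ (c.π.app i₀)) (hX : IsPullback qX f f₀ qY) (x : X) :
    IF f ((Scheme.Modules.pullback qX).map h₀) x ↔
      ∃ (i : I) (φ : i ⟶ i₀) (Xi Yi : Scheme.{u}) (fi : Xi ⟶ Yi) (gi : Yi ⟶ D.obj i)
        (pY : Yi ⟶ Y₀) (pX : Xi ⟶ X₀) (vY : Y ⟶ Yi) (vX : X ⟶ Xi),
        IsPullback pY gi g₀ (D.map φ) ∧ IsPullback pX fi f₀ pY ∧
          vY ≫ pY = qY ∧ vY ≫ gi = g ≫ c.π.app i ∧ vX ≫ pX = qX ∧ vX ≫ fi = f ≫ vY ∧
          IF fi ((Scheme.Modules.pullback pX).map h₀) (vX x) := by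
  constructor
  · intro h
    haveI : ∀ (j k : Over i₀) (φ : j ⟶ k),
        IsAffineHom ((Groth.Agent.H5.Lim.bcDiagram D g₀).map φ) :=
      fun j k φ => Groth.Agent.H5.Lim.isAffineHom_bcMap D g₀ φ inferInstance
    haveI : IsIso (D.map (𝟙 i₀)) := by rw [D.map_id]; infer_instance
    let p₀ : pullback g₀ (D.map (𝟙 i₀)) ⟶ Y₀ := pullback.fst g₀ (D.map (𝟙 i₀))
    haveI : IsIso p₀ := inferInstanceAs (IsIso (pullback.fst g₀ (D.map (𝟙 i₀))))
    let eY : Y ≅ pullback g₀ (c.π.app i₀) := hY.isoPullback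
    have hsqL : IsPullback qX (f ≫ eY.hom) (f₀ ≫ inv p₀)
        (Groth.Agent.H5.Lim.bcProj D c g₀ (Over.mk (𝟙 i₀))) := by
      refine hX.of_iso (Iso.refl _) (Iso.refl _) eY (asIso p₀).symm ?_ ?_ ?_ ?_
      · simp
      · simp
      · simp
      · rw [Iso.symm_hom, asIso_inv, IsIso.comp_inv_eq, Category.assoc]
        have h1 : Groth.Agent.H5.Lim.bcProj D c g₀ (Over.mk (𝟙 i₀)) ≫ p₀ =
            pullback.fst g₀ (c.π.app i₀) :=
          Groth.Agent.H5.Lim.bcProj_fst D c g₀ (Over.mk (𝟙 i₀))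
        rw [h1]
        exact (hY.isoPullback_hom_fst).symm
    have hIFL : IF (f ≫ eY.hom) ((Scheme.Modules.pullback qX).map h₀) x := by
      refine ⟨h.1, ?_⟩
      refine isFlatOverAt_comp f eY.hom _ x (RingHom.Flat.of_bijective ?_) h.2
      exact ConcreteCategory.bijective_of_isIso (eY.hom.stalkMap (f x))
    obtain ⟨f₀', hf₀'⟩ : ∃ f₀' : X₀ ⟶ pullback g₀ (D.map (𝟙 i₀)), f₀' = f₀ ≫ inv p₀ := ⟨_, rfl⟩
    have hl : LocallyOfFinitePresentation f₀' := by rw [hf₀']; infer_instance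
    haveI : @LocallyOfFinitePresentation X₀
        ((Groth.Agent.H5.Lim.bcDiagram D g₀).obj (Over.mk (𝟙 i₀))) f₀' := hl
    rw [← hf₀'] at hsqL
    obtain ⟨k, hk⟩ := exists_stage_IF (Groth.Agent.H5.Lim.bcDiagram D g₀)
      (Groth.Agent.H5.Lim.bcCone D c g₀)
      (Groth.Agent.H5.Lim.isLimitBcCone D c g₀ hc) (Over.mk (𝟙 i₀)) f₀' F₀ G₀ hF₀ hG₀ h₀ qX
      (f ≫ eY.hom) hsqL x hIFL
    let vY : Y ⟶ pullback g₀ (D.map k.left.hom) :=
      eY.hom ≫ Groth.Agent.H5.Lim.bcProj D c g₀ k.left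
    have hvY1 : vY ≫ pullback.fst g₀ (D.map k.left.hom) = qY := by
      change (eY.hom ≫ Groth.Agent.H5.Lim.bcProj D c g₀ k.left) ≫ _ = _
      rw [Category.assoc, Groth.Agent.H5.Lim.bcProj_fst]
      exact hY.isoPullback_hom_fst
    have hvY2 : vY ≫ pullback.snd g₀ (D.map k.left.hom) = g ≫ c.π.app k.left.left := by
      change (eY.hom ≫ Groth.Agent.H5.Lim.bcProj D c g₀ k.left) ≫ _ = _
      rw [Category.assoc, Groth.Agent.H5.Lim.bcProj_snd, ← Category.assoc]
      exact congrArg (· ≫ c.π.app k.left.left) hY.isoPullback_hom_snd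
    have hwX : qX ≫ f₀ = (f ≫ vY) ≫ pullback.fst g₀ (D.map k.left.hom) := by
      rw [Category.assoc, hvY1]; exact hX.w
    let vX : X ⟶ pullback f₀ (pullback.fst g₀ (D.map k.left.hom)) :=
      pullback.lift qX (f ≫ vY) hwX
    have hvX1 : vX ≫ pullback.fst f₀ (pullback.fst g₀ (D.map k.left.hom)) = qX :=
      pullback.lift_fst _ _ _
    have hvX2 : vX ≫ pullback.snd f₀ (pullback.fst g₀ (D.map k.left.hom)) = f ≫ vY :=
      pullback.lift_snd _ _ _
    refine ⟨k.left.left, k.left.hom, pullback f₀ (pullback.fst g₀ (D.map k.left.hom)),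
      pullback g₀ (D.map k.left.hom), pullback.snd _ _, pullback.snd _ _, pullback.fst _ _,
      pullback.fst _ _, vY, vX, IsPullback.of_hasPullback _ _, IsPullback.of_hasPullback _ _,
      hvY1, hvY2, hvX1, hvX2, ?_⟩
    refine hk (pullback.fst f₀ (pullback.fst g₀ (D.map k.left.hom)))
      (pullback.snd f₀ (pullback.fst g₀ (D.map k.left.hom))) ?_ vX hvX1 ?_
    · rw [hf₀']
      refine (IsPullback.of_hasPullback f₀ (pullback.fst g₀ (D.map k.left.hom))).of_iso
        (Iso.refl _) (Iso.refl _) (Iso.refl _) (asIso p₀).symm ?_ ?_ ?_ ?_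
      · exact (Category.comp_id _).trans (Category.id_comp _).symm
      · exact (Category.comp_id _).trans (Category.id_comp _).symm
      · exact (Category.id_comp _).symm
      · change pullback.fst g₀ (D.map k.left.hom) ≫ inv p₀ =
          𝟙 _ ≫ Groth.Agent.H5.Lim.bcMap D g₀ k.hom
        rw [Category.id_comp, IsIso.comp_inv_eq]
        exact (Groth.Agent.H5.Lim.bcMap_fst D g₀ k.hom).symm
    · exact hvX2.trans (Category.assoc f eY.hom _).symm
  · rintro ⟨i, φ, Xi, Yi, fi, gi, pY, pX, vY, vX, hYi, hXi, hvY1, hvY2, hvX1, hvX2, hfl⟩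
    have hX' : IsPullback (vX ≫ pX) f f₀ (vY ≫ pY) := by
      rw [hvX1, hvY1]; exact hX
    have hsq : IsPullback vX f fi vY := IsPullback.of_right hX' hvX2 hXi
    haveI := qc_pullback pX F₀
    haveI := qc_pullback pX G₀
    haveI : LocallyOfFinitePresentation fi :=
      MorphismProperty.of_isPullback (P := @LocallyOfFinitePresentation) hXi inferInstance
    have h1 := IF_pullback_of_isPullback fi f vX vY hsq
      (isFinitePresentation_pullback pX F₀ hF₀) (isFinitePresentation_pullback pX G₀ hG₀)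
      ((Scheme.Modules.pullback pX).map h₀) x hfl
    exact (IF_pullback_comp vX pX hvX1 f h₀ x).1 h1

end Groth.Agent.H3.InjLim
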